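import Mathlib.RingTheory.Smooth.Basic
import Mathlib.RingTheory.MvPolynomial.Homogeneous
import Mathlib.Algebra.MvPolynomial.PDeriv
import Mathlib.Algebra.MvPolynomial.Funext
import Mathlib.RingTheory.Ideal.Quotient.Operations

/-!
# Smoothness of affine hypersurfaces
-/

set_option autoImplicit false
set_option linter.style.haveILetI false
set_option maxHeartbeats 1000000

noncomputable section

universe u

open MvPolynomial

namespace Groth.Agent.H23SmoothHyp

variable {k : Type u} [Field k] {σ : Type} [Fintype σ]

/-- First order Taylor expansion. -/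
theorem aeval_add_mul {B : Type*} [CommRing B] [Algebra k B] (b c : σ → B) (e : B) (he : e * e = 0)
    (f : MvPolynomial σ k) :
    aeval (fun i => b i + c i * e) f = aeval b f + (∑ i, c i * aeval b (pderiv i f)) * e := by
  classical
  induction f using MvPolynomial.induction_on with
  | C a => simp
  | add p q hp hq =>
    simp only [map_add, hp, hq, mul_add, Finset.sum_add_distrib, add_mul]
    ring
  | mul_X p j hp =>
    simp only [map_mul, aeval_X, hp, Derivation.leibniz, smul_eq_mul, map_add, pderiv_X, Pi.single_apply,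
      mul_add, Finset.sum_add_distrib, apply_ite (aeval b), map_one, map_zero, mul_ite, mul_one, mul_zero,
      Finset.sum_ite_eq, Finset.mem_univ, if_true]
    rw [show ∑ i, c i * (b j * aeval b (pderiv i p)) = b j * ∑ i, c i * aeval b (pderiv i p) by
      rw [Finset.mul_sum]; exact Finset.sum_congr rfl fun i _ => by ring]
    linear_combination ((∑ i, c i * aeval b (pderiv i p)) * c j) * he

/-- The Jacobian criterion, sufficiency. -/
theorem smooth_of_span {f : MvPolynomial σ k}
    (h : (1 : MvPolynomial σ k) ∈ Ideal.span {f} ⊔ Ideal.span (Set.range fun i => pderiv i f)) :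
    Algebra.Smooth k (MvPolynomial σ k ⧸ Ideal.span {f}) := by
  classical
  obtain ⟨x, hx, y, hy, hxy⟩ := Submodule.mem_sup.1 h
  obtain ⟨A, rfl⟩ := Ideal.mem_span_singleton'.1 hx
  obtain ⟨c, rfl⟩ := (Submodule.mem_span_range_iff_exists_fun _).1 hy
  refine ⟨Algebra.FormallySmooth.of_comp_surjective fun B _ _ I hI g => ?_,
    Algebra.FinitePresentation.quotient (Submodule.fg_span_singleton f)⟩
  choose b hb using fun i => Ideal.Quotient.mk_surjective (I := I) (g (Ideal.Quotient.mk _ (X i)))
  have hgb : ∀ p, Ideal.Quotient.mk I (aeval b p) = g (Ideal.Quotient.mk _ p) := fun p => by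
    refine AlgHom.congr_fun (φ₁ := (Ideal.Quotient.mkₐ k I).comp (aeval b))
      (φ₂ := g.comp (Ideal.Quotient.mkₐ k _)) (MvPolynomial.algHom_ext fun i => ?_) p
    simp [hb]
  have he : aeval b f ∈ I := by
    rw [← Ideal.Quotient.eq_zero_iff_mem, hgb,
      Ideal.Quotient.eq_zero_iff_mem.2 (Ideal.mem_span_singleton_self f), map_zero]
  have he2 : aeval b f * aeval b f = 0 := by
    have := Ideal.mul_mem_mul he he
    rwa [← sq, hI, Ideal.mem_bot] at this
  let b' : σ → B := fun i => b i + (-aeval b (c i)) * aeval b f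
  have hb' : aeval b' f = 0 := by
    rw [aeval_add_mul b _ _ he2]
    have h1 := congrArg (aeval b) hxy
    simp only [map_add, map_mul, map_sum, smul_eq_mul, map_one] at h1
    simp only [neg_mul, Finset.sum_neg_distrib]
    linear_combination (-(aeval b f)) * h1 + aeval b A * he2
  refine ⟨Ideal.Quotient.liftₐ _ (aeval b') ?_, ?_⟩
  · intro p hp
    obtain ⟨q, rfl⟩ := Ideal.mem_span_singleton'.1 hp
    rw [map_mul, hb', mul_zero]
  · refine Ideal.Quotient.algHom_ext k (MvPolynomial.algHom_ext fun i => ?_)
    show Ideal.Quotient.mk I (aeval b' (X i)) = g (Ideal.Quotient.mk (Ideal.span {f}) (X i))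
    simp only [aeval_X, b', map_add, map_mul, hb, Ideal.Quotient.eq_zero_iff_mem.2 he, mul_zero, add_zero]

section Curve

variable {K : Type*} [Field K]

/-- A homogeneous polynomial at a multiple of a point. -/
theorem aeval_mul_of_isHomogeneous {B : Type*} [CommRing B] [Algebra K B] {g : MvPolynomial σ K} {d : ℕ}
    (hg : g.IsHomogeneous d) (t : B) (z : σ → B) : aeval (fun i => t * z i) g = t ^ d * aeval z g := by
  classical
  conv_lhs => rw [g.as_sum]
  conv_rhs => rw [g.as_sum]
  rw [map_sum, map_sum, Finset.mul_sum]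
  refine Finset.sum_congr rfl fun s hs => ?_
  have hd : ∑ i, s i = d := by
    have := hg (mem_support_iff.1 hs)
    simpa [Finsupp.weight_apply, Finsupp.sum_fintype] using this
  rw [aeval_monomial, aeval_monomial, Finsupp.prod_fintype _ _ (fun i => pow_zero _),
    Finsupp.prod_fintype _ _ (fun i => pow_zero _)]
  simp_rw [mul_pow]
  rw [Finset.prod_mul_distrib, Finset.prod_pow_eq_pow_sum, hd]
  ring

theorem coeff_curve (g : MvPolynomial σ K) (r : ℕ) (hlow : ∀ d < r, homogeneousComponent d g = 0)
    (z : σ → Polynomial K) :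
    (∀ d < r, (aeval (fun i => Polynomial.X * z i) g).coeff d = 0) ∧
      (aeval (fun i => Polynomial.X * z i) g).coeff r = eval (fun i => (z i).coeff 0) (homogeneousComponent r g) := by
  classical
  have hexp : aeval (fun i => Polynomial.X * z i) g =
      ∑ d ∈ Finset.range (g.totalDegree + 1), Polynomial.X ^ d * aeval z (homogeneousComponent d g) := by
    conv_lhs => rw [← sum_homogeneousComponent g]
    rw [map_sum]
    exact Finset.sum_congr rfl fun d _ => aeval_mul_of_isHomogeneous (homogeneousComponent_isHomogeneous d g) _ _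
  have hterm : ∀ e d, e ≤ r → (d ≠ e) → (Polynomial.X ^ d * aeval z (homogeneousComponent d g)).coeff e = 0 := by
    intro e d he hne
    rcases lt_or_gt_of_ne hne with hlt | hgt
    · rw [hlow d (lt_of_lt_of_le hlt he), map_zero, mul_zero, Polynomial.coeff_zero]
    · rw [Polynomial.coeff_X_pow_mul', if_neg (by omega)]
  refine ⟨fun e he => ?_, ?_⟩
  · rw [hexp, Polynomial.finsetSum_coeff]
    refine Finset.sum_eq_zero fun d _ => ?_
    rcases eq_or_ne d e with rfl | hne
    · rw [hlow d he, map_zero, mul_zero, Polynomial.coeff_zero]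
    · exact hterm e d he.le hne
  · rw [hexp, Polynomial.finsetSum_coeff, Finset.sum_eq_single r (fun d _ hne => hterm r d le_rfl hne)
      (fun hr => by
        rw [homogeneousComponent_eq_zero _ _ (by simpa [Finset.mem_range] using hr), map_zero, mul_zero,
          Polynomial.coeff_zero]),
      Polynomial.coeff_X_pow_mul', if_pos le_rfl, Nat.sub_self, ← Polynomial.constantCoeff_apply]
    change ((Polynomial.constantCoeff).comp (aeval z).toRingHom) (homogeneousComponent r g) = _
    refine RingHom.congr_fun (MvPolynomial.ringHom_ext (fun a => ?_) fun i => ?_) _ <;> simp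

end Curve

variable {K : Type u} [Field K] [Algebra k K]

/-- The Jacobian criterion, necessity. -/
theorem exists_pderiv_ne_zero [Infinite K] {f : MvPolynomial σ k} (hf : f ≠ 0)
    [Algebra.Smooth k (MvPolynomial σ k ⧸ Ideal.span {f})] (a : σ → K) (ha : aeval a f = 0) :
    ∃ i, aeval a (pderiv i f) ≠ 0 := by
  classical
  by_contra hall
  push Not at hall
  let g : MvPolynomial σ K := aeval (fun i => C (a i) + X i) f
  have hgz : ∀ z : σ → Polynomial K, aeval (fun i => Polynomial.C (a i) + Polynomial.X * z i) f =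
      aeval (fun i => Polynomial.X * z i) g := fun z => by
    refine (AlgHom.congr_fun (φ₂ := ((aeval fun i => Polynomial.X * z i : MvPolynomial σ K →ₐ[K] Polynomial K).restrictScalars k).comp
      (aeval fun i => C (a i) + X i)) (MvPolynomial.algHom_ext fun i => ?_) f)
    simp
  have hg0 : g ≠ 0 := by
    intro h
    have h1 : aeval (fun i => (X i : MvPolynomial σ K) - C (a i)) g = map (algebraMap k K) f := by
      show ((aeval fun i => (X i : MvPolynomial σ K) - C (a i) : MvPolynomial σ K →ₐ[K] MvPolynomial σ K).restrictScalars k).comp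
        (aeval fun i => C (a i) + X i) f = (MvPolynomial.mapAlgHom (Algebra.ofId k K)) f
      refine AlgHom.congr_fun (MvPolynomial.algHom_ext fun i => ?_) f
      simp
    rw [h, map_zero] at h1
    exact hf (map_injective _ (algebraMap k K).injective (by rw [← h1, map_zero]))
  have hex : ∃ r, homogeneousComponent r g ≠ 0 := by
    by_contra h
    push Not at h
    exact hg0 (by rw [← sum_homogeneousComponent g]; exact Finset.sum_eq_zero fun d _ => h d)
  let r := Nat.find hex
  have hlow : ∀ d < r, homogeneousComponent d g = 0 := fun d hd => not_not.1 (Nat.find_min hex hd)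
  obtain ⟨v, hv⟩ : ∃ v : σ → K, eval v (homogeneousComponent r g) ≠ 0 := by
    by_contra h
    push Not at h
    exact Nat.find_spec hex (MvPolynomial.funext fun x => by rw [h x, map_zero])
  have hgeq : ∀ v : σ → K, eval v g = aeval (fun i => a i + v i) f := fun v => by
    refine AlgHom.congr_fun (φ₁ := ((aeval v : MvPolynomial σ K →ₐ[K] K).restrictScalars k).comp
      (aeval fun i => C (a i) + X i)) (MvPolynomial.algHom_ext fun i => ?_) f
    simp
  have hr : 2 ≤ r := by
    by_contra hlt
    have hcurve : ∀ d < 2, (aeval (fun i => Polynomial.C (a i) + Polynomial.C (v i) * Polynomial.X) f).coeff d = 0 := by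
      intro d hd
      let M := Ideal.span {(Polynomial.X : Polynomial K) ^ 2}
      let ε : Polynomial K ⧸ M := Ideal.Quotient.mk M Polynomial.X
      have hε : ε * ε = 0 := by
        rw [← map_mul, Ideal.Quotient.eq_zero_iff_mem, ← sq]
        exact Ideal.mem_span_singleton_self _
      have h1 := aeval_add_mul (k := k) (fun i => Ideal.Quotient.mk M (Polynomial.C (a i)))
        (fun i => Ideal.Quotient.mk M (Polynomial.C (v i))) ε hε f
      have hc : ∀ p : MvPolynomial σ k, aeval (fun i => Ideal.Quotient.mk M (Polynomial.C (a i))) p =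
          algebraMap K (Polynomial K ⧸ M) (aeval a p) := fun p => by
        refine AlgHom.congr_fun (φ₂ := (IsScalarTower.toAlgHom k K (Polynomial K ⧸ M)).comp (aeval a))
          (MvPolynomial.algHom_ext fun i => ?_) p
        simp [IsScalarTower.algebraMap_apply K (Polynomial K) (Polynomial K ⧸ M)]
      simp only [hc, ha, hall, map_zero, mul_zero, Finset.sum_const_zero, zero_mul, add_zero] at h1
      have h2 : Ideal.Quotient.mk M (aeval (fun i => Polynomial.C (a i) + Polynomial.C (v i) * Polynomial.X) f) = 0 := by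
        rw [← h1]
        refine AlgHom.congr_fun (φ₁ := (Ideal.Quotient.mkₐ k M).comp
          (aeval fun i => Polynomial.C (a i) + Polynomial.C (v i) * Polynomial.X)) (MvPolynomial.algHom_ext fun i => ?_) f
        simp [ε]
      rw [Ideal.Quotient.eq_zero_iff_mem, Ideal.mem_span_singleton, Polynomial.X_pow_dvd_iff] at h2
      exact h2 d hd
    have h3 := hcurve r (by omega)
    simp_rw [mul_comm (Polynomial.C _) Polynomial.X] at h3
    rw [hgz, (coeff_curve g r hlow _).2] at h3
    exact hv (by simpa using h3)
  let M₂ := Ideal.span {(Polynomial.X : Polynomial K) ^ 2}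
  let M := Ideal.span {(Polynomial.X : Polynomial K) ^ (r + 1)}
  have hMle : M ≤ M₂ := by
    rw [Ideal.span_singleton_le_span_singleton]
    exact pow_dvd_pow _ (by omega)
  let pr : (Polynomial K ⧸ M) →ₐ[k] (Polynomial K ⧸ M₂) := Ideal.Quotient.factorₐ k hMle
  have hpr : Function.Surjective pr := Ideal.Quotient.factor_surjective hMle
  have hnil : IsNilpotent (RingHom.ker pr.toRingHom) := by
    refine ⟨r + 1, ?_⟩
    have hle : RingHom.ker pr.toRingHom ≤ (Ideal.span {(Polynomial.X : Polynomial K)}).map (Ideal.Quotient.mk M) := by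
      intro x hx
      obtain ⟨x, rfl⟩ := Ideal.Quotient.mk_surjective x
      refine Ideal.mem_map_of_mem _ ?_
      have hx' : Ideal.Quotient.mk M₂ x = 0 := hx
      rw [Ideal.Quotient.eq_zero_iff_mem] at hx'
      exact Ideal.span_singleton_le_span_singleton.2 (dvd_pow_self _ two_ne_zero) hx'
    refine eq_bot_iff.2 ((Ideal.pow_right_mono hle (r + 1)).trans ?_)
    rw [← Ideal.map_pow, Ideal.span_singleton_pow, Ideal.map_quotient_self]
  let g₂ : (MvPolynomial σ k ⧸ Ideal.span {f}) →ₐ[k] (Polynomial K ⧸ M₂) :=
    Ideal.Quotient.liftₐ _ ((Ideal.Quotient.mkₐ k M₂).comp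
      (aeval fun i => Polynomial.C (a i) + Polynomial.X * Polynomial.C (v i))) (fun p hp => by
      obtain ⟨q, rfl⟩ := Ideal.mem_span_singleton'.1 hp
      rw [map_mul, AlgHom.comp_apply, AlgHom.comp_apply, hgz]
      refine mul_eq_zero_of_right _ ?_
      show Ideal.Quotient.mk M₂ _ = 0
      rw [Ideal.Quotient.eq_zero_iff_mem, Ideal.mem_span_singleton, Polynomial.X_pow_dvd_iff]
      exact fun d hd => (coeff_curve g r hlow _).1 d (lt_of_lt_of_le hd hr))
  obtain ⟨h, hh⟩ : ∃ h : (MvPolynomial σ k ⧸ Ideal.span {f}) →ₐ[k] (Polynomial K ⧸ M), pr.comp h = g₂ :=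
    ⟨_, Algebra.FormallySmooth.comp_liftOfSurjective g₂ pr hpr hnil⟩
  choose P hP using fun i => Ideal.Quotient.mk_surjective (I := M) (h (Ideal.Quotient.mk _ (X i)))
  have hlift : ∀ i, P i = Polynomial.C (a i) + Polynomial.X * (P i).divX ∧ (P i).divX.coeff 0 = v i := by
    intro i
    have h1 : Ideal.Quotient.mk M₂ (P i) = Ideal.Quotient.mk M₂ (Polynomial.C (a i) + Polynomial.X * Polynomial.C (v i)) := by
      have := AlgHom.congr_fun hh (Ideal.Quotient.mk _ (X i))
      rw [AlgHom.comp_apply, ← hP i] at this
      exact this.trans (congrArg (Ideal.Quotient.mk M₂) (aeval_X (fun i => Polynomial.C (a i) + Polynomial.X * Polynomial.C (v i)) i))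
    rw [Ideal.Quotient.eq, Ideal.mem_span_singleton, Polynomial.X_pow_dvd_iff] at h1
    have e0 := h1 0 (by omega)
    have e1 := h1 1 (by omega)
    simp at e0 e1
    refine ⟨?_, ?_⟩
    · conv_lhs => rw [← Polynomial.X_mul_divX_add (P i)]
      rw [sub_eq_zero.1 e0, add_comm]
    · rw [Polynomial.coeff_divX, zero_add]
      exact sub_eq_zero.1 e1
  have hfin : Ideal.Quotient.mk M (aeval (fun i => Polynomial.C (a i) + Polynomial.X * (P i).divX) f) = 0 := by
    have h2 : ((Ideal.Quotient.mkₐ k M).comp (aeval fun i => Polynomial.C (a i) + Polynomial.X * (P i).divX)) =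
        h.comp (Ideal.Quotient.mkₐ k _) := MvPolynomial.algHom_ext fun i => by
      simp only [AlgHom.comp_apply, aeval_X, Ideal.Quotient.mkₐ_eq_mk]
      rw [← (hlift i).1, hP i]
    have h3 := AlgHom.congr_fun h2 f
    simp only [AlgHom.comp_apply, Ideal.Quotient.mkₐ_eq_mk,
      Ideal.Quotient.eq_zero_iff_mem.2 (Ideal.mem_span_singleton_self f), map_zero] at h3
    exact h3
  rw [hgz, Ideal.Quotient.eq_zero_iff_mem, Ideal.mem_span_singleton, Polynomial.X_pow_dvd_iff] at hfin
  have h4 := hfin r (Nat.lt_succ_self r)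
  rw [(coeff_curve g r hlow _).2] at h4
  simp only [fun i => (hlift i).2] at h4
  exact hv h4

end Groth.Agent.H23SmoothHyp
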