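import Groth.Agent.H23SmoothHyp.Basic
import Mathlib.RingTheory.Polynomial.Resultant.Basic
import Mathlib.FieldTheory.IsAlgClosed.AlgebraicClosure
import Mathlib.FieldTheory.IsAlgClosed.Basic

/-!
# Charts of a curve in a Hirzebruch surface
-/

set_option autoImplicit false
set_option linter.style.haveILetI false
set_option maxHeartbeats 800000

noncomputable section

universe u

open MvPolynomial

namespace Groth.Agent.H23SmoothHyp

variable {k : Type u} [Field k]

/-- A univariate polynomial in the first variable. -/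
def inX (p : Polynomial k) : MvPolynomial (Fin 2) k := Polynomial.aeval (X 0) p

/-- The equation of a chart. -/
def chart (P Q : Polynomial k) : MvPolynomial (Fin 2) k := inX P + inX Q * X 1

theorem pderiv_inX (p : Polynomial k) (i : Fin 2) :
    pderiv i (inX p) = if i = 0 then inX (Polynomial.derivative p) else 0 := by
  rw [inX, Derivation.map_aeval, pderiv_X]
  fin_cases i <;> simp [inX]

theorem aeval_inX {B : Type*} [CommRing B] [Algebra k B] (a : Fin 2 → B) (p : Polynomial k) :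
    aeval a (inX p) = Polynomial.aeval (a 0) p := by
  rw [inX, ← Polynomial.aeval_algHom_apply, aeval_X]

theorem chart_ne_zero {P Q : Polynomial k} (h : P ≠ 0 ∨ Q ≠ 0) : chart P Q ≠ 0 := by
  intro h0
  have hev : ∀ c : k, aeval (![Polynomial.X, Polynomial.C c] : Fin 2 → Polynomial k) (chart P Q) =
      P + Q * Polynomial.C c := fun c => by
    simp [chart, aeval_inX]
  have h1 := hev 0
  have h2 := hev 1
  rw [h0, map_zero] at h1 h2
  simp only [map_zero, mul_zero, add_zero] at h1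
  rw [← h1, map_one, mul_one, zero_add] at h2
  exact h.elim (fun hP => hP h1.symm) (fun hQ => hQ h2.symm)

theorem smooth_chart_of_isCoprime {P Q : Polynomial k} (h : IsCoprime P Q) :
    Algebra.Smooth k (MvPolynomial (Fin 2) k ⧸ Ideal.span {chart P Q}) := by
  refine smooth_of_span ?_
  obtain ⟨a, b, hab⟩ := h
  have hQ : inX Q ∈ Ideal.span (Set.range fun i => pderiv i (chart P Q)) := by
    refine Ideal.subset_span ⟨1, ?_⟩
    simp [chart, pderiv_inX, Derivation.leibniz]
  have h1 : (1 : MvPolynomial (Fin 2) k) = inX a * chart P Q + (inX b - inX a * X 1) * inX Q := by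
    rw [show (1 : MvPolynomial (Fin 2) k) = inX (a * P + b * Q) by rw [hab, inX, map_one]]
    simp only [chart, inX, map_add, map_mul]
    ring
  rw [h1]
  exact Submodule.add_mem _ (Submodule.mem_sup_left (Ideal.mul_mem_left _ _ (Ideal.mem_span_singleton_self _)))
    (Submodule.mem_sup_right (Ideal.mul_mem_left _ _ hQ))

/-- Both charts over an open of the line are smooth iff the two polynomials have no common root. -/
theorem smooth_iff {P Q : Polynomial k} (hne : P ≠ 0 ∨ Q ≠ 0) :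
    (Algebra.Smooth k (MvPolynomial (Fin 2) k ⧸ Ideal.span {chart P Q}) ∧
      Algebra.Smooth k (MvPolynomial (Fin 2) k ⧸ Ideal.span {chart Q P})) ↔ IsCoprime P Q := by
  refine ⟨fun ⟨h1, h2⟩ => ?_, fun h => ⟨smooth_chart_of_isCoprime h, smooth_chart_of_isCoprime h.symm⟩⟩
  rw [Polynomial.isCoprime_iff_aeval_ne_zero_of_isAlgClosed k (AlgebraicClosure k)]
  intro t
  by_contra hcon
  rw [not_or, not_not, not_not] at hcon
  obtain ⟨hP, hQ⟩ := hcon
  by_cases hQ' : Polynomial.aeval t (Polynomial.derivative Q) = 0 ∧ Polynomial.aeval t (Polynomial.derivative P) ≠ 0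
  · haveI := h2
    obtain ⟨i, hi⟩ := exists_pderiv_ne_zero (chart_ne_zero hne.symm) (![t, 0] : Fin 2 → AlgebraicClosure k)
      (by simp [chart, aeval_inX, hP, hQ])
    fin_cases i <;> simp [chart, pderiv_inX, Derivation.leibniz, aeval_inX, hP, hQ'.1] at hi
  · rw [not_and, not_not] at hQ'
    obtain ⟨w, hw⟩ : ∃ w, Polynomial.aeval t (Polynomial.derivative P) + w * Polynomial.aeval t (Polynomial.derivative Q) = 0 := by
      by_cases h0 : Polynomial.aeval t (Polynomial.derivative Q) = 0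
      · exact ⟨0, by rw [hQ' h0, zero_mul, add_zero]⟩
      · exact ⟨-Polynomial.aeval t (Polynomial.derivative P) / Polynomial.aeval t (Polynomial.derivative Q), by
          rw [div_mul_cancel₀ _ h0, add_neg_cancel]⟩
    haveI := h1
    obtain ⟨i, hi⟩ := exists_pderiv_ne_zero (chart_ne_zero hne) (![t, w] : Fin 2 → AlgebraicClosure k)
      (by simp [chart, aeval_inX, hP, hQ])
    fin_cases i
    · simp [chart, pderiv_inX, Derivation.leibniz, aeval_inX] at hi
      exact hi (by linear_combination hw)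
    · simp [chart, pderiv_inX, Derivation.leibniz, aeval_inX, hQ] at hi

open scoped Polynomial in
theorem resultant_ne_zero_iff (n : ℕ) (hn : 1 ≤ n) {q ξ : k[X]} (hq : q.natDegree ≤ 2) (hξ : ξ.natDegree ≤ n)
    (hne : q ≠ 0 ∨ ξ ≠ 0) :
    Polynomial.resultant q ξ 2 n ≠ 0 ↔ IsCoprime q ξ ∧ (q.coeff 2 ≠ 0 ∨ ξ.coeff n ≠ 0) := by
  by_cases hq2 : q.coeff 2 = 0
  · by_cases hξn : ξ.coeff n = 0
    · simp only [hq2, hξn, ne_eq, not_true_eq_false, or_self, and_false, iff_false, not_not]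
      refine Polynomial.resultant_eq_zero_of_lt_lt _ _ _ _ (lt_of_le_of_ne hq fun h => ?_) (lt_of_le_of_ne hξ fun h => ?_)
      · have h0 : q ≠ 0 := fun h' => by rw [h', Polynomial.natDegree_zero] at h; omega
        exact h0 (Polynomial.leadingCoeff_eq_zero.1 (by rw [Polynomial.leadingCoeff, h, hq2]))
      · have h0 : ξ ≠ 0 := fun h' => by rw [h', Polynomial.natDegree_zero] at h; omega
        exact h0 (Polynomial.leadingCoeff_eq_zero.1 (by rw [Polynomial.leadingCoeff, h, hξn]))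
    · have hd : ξ.natDegree = n := le_antisymm hξ (Polynomial.le_natDegree_of_ne_zero hξn)
      obtain ⟨j, hj⟩ := Nat.exists_eq_add_of_le hq
      have key : Polynomial.resultant q ξ q.natDegree ξ.natDegree ≠ 0 ↔ IsCoprime q ξ := by
        rw [ne_eq, Polynomial.resultant_eq_zero_iff]
        simp [hne]
      rw [hd] at key
      rw [hj, Polynomial.resultant_add_left_deg _ _ _ _ _ le_rfl]
      simp [key, hξn]
  · have hd : q.natDegree = 2 := le_antisymm hq (Polynomial.le_natDegree_of_ne_zero hq2)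
    obtain ⟨j, hj⟩ := Nat.exists_eq_add_of_le hξ
    have key : Polynomial.resultant q ξ q.natDegree ξ.natDegree ≠ 0 ↔ IsCoprime q ξ := by
      rw [ne_eq, Polynomial.resultant_eq_zero_iff]
      simp [hne]
    rw [hd] at key
    rw [hj, Polynomial.resultant_add_right_deg _ _ _ _ _ le_rfl]
    simp [key, hq2]

/-- Coprimality at infinity. -/
theorem isCoprime_reverse (n : ℕ) {q ξ q' ξ' : Polynomial k}
    (hq : ∀ s : AlgebraicClosure k, s ≠ 0 → (Polynomial.aeval s q' = 0 ↔ Polynomial.aeval s⁻¹ q = 0))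
    (hξ : ∀ s : AlgebraicClosure k, s ≠ 0 → (Polynomial.aeval s ξ' = 0 ↔ Polynomial.aeval s⁻¹ ξ = 0))
    (hq0 : q'.coeff 0 = q.coeff 2) (hξ0 : ξ'.coeff 0 = ξ.coeff n) :
    (IsCoprime q ξ ∧ IsCoprime q' ξ') ↔ IsCoprime q ξ ∧ (q.coeff 2 ≠ 0 ∨ ξ.coeff n ≠ 0) := by
  refine and_congr_right fun h => ?_
  rw [Polynomial.isCoprime_iff_aeval_ne_zero_of_isAlgClosed k (AlgebraicClosure k)] at h
  rw [Polynomial.isCoprime_iff_aeval_ne_zero_of_isAlgClosed k (AlgebraicClosure k), ← hq0, ← hξ0]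
  have h00 : ∀ p : Polynomial k, Polynomial.aeval (0 : AlgebraicClosure k) p ≠ 0 ↔ p.coeff 0 ≠ 0 := fun p => by
    rw [← Polynomial.coeff_zero_eq_aeval_zero' p, ne_eq, map_eq_zero]
  refine ⟨fun h' => (h' 0).imp (h00 _).1 (h00 _).1, fun h' s => ?_⟩
  rcases eq_or_ne s 0 with rfl | hs
  · exact h'.imp (h00 _).2 (h00 _).2
  · exact (h s⁻¹).imp (mt (hq s hs).1) (mt (hξ s hs).1)

theorem aeval_reflect_eq_zero {m : ℕ} (v : Fin (m + 1) → k) (s : AlgebraicClosure k) (hs : s ≠ 0) :
    Polynomial.aeval s (∑ i : Fin (m + 1), Polynomial.C (v i) * Polynomial.X ^ (m - (i : ℕ))) = 0 ↔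
      Polynomial.aeval s⁻¹ (∑ i : Fin (m + 1), Polynomial.C (v i) * Polynomial.X ^ (i : ℕ)) = 0 := by
  have h : Polynomial.aeval s (∑ i : Fin (m + 1), Polynomial.C (v i) * Polynomial.X ^ (m - (i : ℕ))) =
      s ^ m * Polynomial.aeval s⁻¹ (∑ i : Fin (m + 1), Polynomial.C (v i) * Polynomial.X ^ (i : ℕ)) := by
    rw [map_sum, map_sum, Finset.mul_sum]
    refine Finset.sum_congr rfl fun i _ => ?_
    simp only [map_mul, map_pow, Polynomial.aeval_C, Polynomial.aeval_X]
    rw [inv_pow, pow_sub₀ s hs (Nat.le_of_lt_succ i.2)]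
    ring
  rw [h, mul_eq_zero, or_iff_right (pow_ne_zero _ hs)]

/-- The smoothness criterion for the curve. -/
theorem smooth_charts_iff (n : ℕ) (hn : 3 ≤ n) (q : Fin 3 → k) (ξ : Fin (n + 1) → k) (hqξ : q ≠ 0 ∨ ξ ≠ 0) :
    (Algebra.Smooth k (MvPolynomial (Fin 2) k ⧸ Ideal.span ({(∑ i : Fin 3, C (q i) * X 0 ^ (i : ℕ)) + (∑ j : Fin (n + 1), C (ξ j) * X 0 ^ (j : ℕ)) * X 1} : Set (MvPolynomial (Fin 2) k))) ∧
      Algebra.Smooth k (MvPolynomial (Fin 2) k ⧸ Ideal.span ({(∑ i : Fin 3, C (q i) * X 0 ^ (i : ℕ)) * X 1 + (∑ j : Fin (n + 1), C (ξ j) * X 0 ^ (j : ℕ))} : Set (MvPolynomial (Fin 2) k))) ∧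
      Algebra.Smooth k (MvPolynomial (Fin 2) k ⧸ Ideal.span ({(∑ i : Fin 3, C (q i) * X 0 ^ (2 - (i : ℕ))) + (∑ j : Fin (n + 1), C (ξ j) * X 0 ^ (n - (j : ℕ))) * X 1} : Set (MvPolynomial (Fin 2) k))) ∧
      Algebra.Smooth k (MvPolynomial (Fin 2) k ⧸ Ideal.span ({(∑ i : Fin 3, C (q i) * X 0 ^ (2 - (i : ℕ))) * X 1 + (∑ j : Fin (n + 1), C (ξ j) * X 0 ^ (n - (j : ℕ)))} : Set (MvPolynomial (Fin 2) k)))) ↔
    Polynomial.resultant (∑ i : Fin 3, Polynomial.C (q i) * Polynomial.X ^ (i : ℕ))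
      (∑ j : Fin (n + 1), Polynomial.C (ξ j) * Polynomial.X ^ (j : ℕ)) 2 n ≠ 0 := by
  let pol : (m : ℕ) → (Fin (m + 1) → k) → (Fin (m + 1) → ℕ) → Polynomial k :=
    fun m v e => ∑ i, Polynomial.C (v i) * Polynomial.X ^ e i
  have hin : ∀ (m : ℕ) (v : Fin (m + 1) → k) (e : Fin (m + 1) → ℕ),
      inX (pol m v e) = ∑ i, C (v i) * X 0 ^ e i := fun m v e => by
    simp [inX, pol, map_sum, MvPolynomial.algebraMap_eq]
  have hco : ∀ (m : ℕ) (v : Fin (m + 1) → k) (i : Fin (m + 1)), (pol m v (fun i => (i : ℕ))).coeff i = v i := by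
    intro m v i
    simp only [pol, Polynomial.finsetSum_coeff, Polynomial.coeff_C_mul_X_pow]
    rw [Finset.sum_eq_single i (fun j _ hj => if_neg fun h => hj (Fin.ext h.symm)) (fun h => absurd (Finset.mem_univ i) h),
      if_pos rfl]
  have hrc : ∀ (m : ℕ) (v : Fin (m + 1) → k), (pol m v (fun i => m - (i : ℕ))).coeff 0 = v (Fin.last m) := by
    intro m v
    simp only [pol, Polynomial.finsetSum_coeff, Polynomial.coeff_C_mul_X_pow]
    rw [Finset.sum_eq_single (Fin.last m) (fun j _ hj => if_neg fun h => hj (Fin.ext (by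
      rw [Fin.val_last]; have := j.2; omega))) (fun h => absurd (Finset.mem_univ _) h), if_pos (by simp)]
  have hdeg : ∀ (m : ℕ) (v : Fin (m + 1) → k), (pol m v (fun i => (i : ℕ))).natDegree ≤ m := fun m v =>
    Polynomial.natDegree_sum_le_of_forall_le _ _ fun i _ =>
      (Polynomial.natDegree_C_mul_X_pow_le _ _).trans (Nat.le_of_lt_succ i.2)
  let qp := pol 2 q (fun i => (i : ℕ))
  let xp := pol n ξ (fun i => (i : ℕ))
  let qr := pol 2 q (fun i => 2 - (i : ℕ))
  let xr := pol n ξ (fun i => n - (i : ℕ))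
  have hne : qp ≠ 0 ∨ xp ≠ 0 := hqξ.imp (fun h h0 => h (funext fun i => by
    rw [← hco 2 q i]; exact (congrArg (fun p => Polynomial.coeff p i) h0).trans (Polynomial.coeff_zero _)))
    (fun h h0 => h (funext fun i => by
    rw [← hco n ξ i]; exact (congrArg (fun p => Polynomial.coeff p i) h0).trans (Polynomial.coeff_zero _)))
  have hner : qr ≠ 0 ∨ xr ≠ 0 := by
    by_contra h
    rw [not_or, not_not, not_not] at h
    have hz : ∀ (m : ℕ) (v : Fin (m + 1) → k), pol m v (fun i => m - (i : ℕ)) = 0 → v = 0 := fun m v h0 => funext fun i => by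
      have h1 := congrArg (fun p => Polynomial.coeff p (m - (i : ℕ))) h0
      simp only [pol, Polynomial.finsetSum_coeff, Polynomial.coeff_C_mul_X_pow, Polynomial.coeff_zero] at h1
      rwa [Finset.sum_eq_single i (fun j _ hj => if_neg fun h => hj (Fin.ext (by
        have := i.2; have := j.2; omega))) (fun h => absurd (Finset.mem_univ i) h), if_pos rfl] at h1
    exact hqξ.elim (fun hh => hh (hz 2 q h.1)) (fun hh => hh (hz n ξ h.2))
  rw [add_comm ((∑ i : Fin 3, C (q i) * X 0 ^ (i : ℕ)) * X 1), add_comm ((∑ i : Fin 3, C (q i) * X 0 ^ (2 - (i : ℕ))) * X 1),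
    ← hin 2 q, ← hin n ξ, ← hin 2 q (fun i => 2 - (i : ℕ)), ← hin n ξ (fun i => n - (i : ℕ))]
  change (Algebra.Smooth k (MvPolynomial (Fin 2) k ⧸ Ideal.span {chart qp xp}) ∧
    Algebra.Smooth k (MvPolynomial (Fin 2) k ⧸ Ideal.span {chart xp qp}) ∧
    Algebra.Smooth k (MvPolynomial (Fin 2) k ⧸ Ideal.span {chart qr xr}) ∧
    Algebra.Smooth k (MvPolynomial (Fin 2) k ⧸ Ideal.span {chart xr qr})) ↔ Polynomial.resultant qp xp 2 n ≠ 0
  rw [resultant_ne_zero_iff n (by omega) (hdeg 2 q) (hdeg n ξ) hne, ← and_assoc, smooth_iff hne, smooth_iff hner]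
  refine isCoprime_reverse n (fun s hs => aeval_reflect_eq_zero q s hs) (fun s hs => aeval_reflect_eq_zero ξ s hs) ?_ ?_
  · exact (hrc 2 q).trans (hco 2 q (Fin.last 2)).symm
  · exact (hrc n ξ).trans ((hco n ξ (Fin.last n)).symm.trans (by rw [Fin.val_last]))

end Groth.Agent.H23SmoothHyp
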